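import Groth.Agent.H75.Extend.Morphisms
import Groth.Agent.Lib.Depth.Basic
import Mathlib.AlgebraicGeometry.Morphisms.Flat
import Mathlib.AlgebraicGeometry.Noetherian
import Mathlib.AlgebraicGeometry.Morphisms.Finite
import Mathlib.RingTheory.Ideal.AssociatedPrime.Basic
import Mathlib.RingTheory.Regular.Flat

/-!
Morphisms of finite flat schemes over a scheme of depth ≥ 2 (resp. ≥ 1) off an open.
-/

set_option autoImplicit false

universe u

open CategoryTheory CategoryTheory.Limits AlgebraicGeometry TopologicalSpace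

namespace Groth.Agent.Lib.FlatExtend.Basic

open RingTheory.Sequence Groth.Agent.H75.Extend

theorem map_regular {R S : Type u} [CommRing R] [CommRing S] (φ : R →+* S) (hφ : φ.Flat)
    {rs : List R} (h : IsWeaklyRegular R rs) : IsWeaklyRegular S (rs.map φ) := by
  letI := φ.toAlgebra
  haveI : Module.Flat R S := hφ
  exact h.of_flat

theorem map_maximalIdeal {G S : Scheme.{u}} (f : G ⟶ S) (z : G) {a : S.presheaf.stalk (f z)}
    (ha : a ∈ IsLocalRing.maximalIdeal _) :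
    (f.stalkMap z).hom a ∈ IsLocalRing.maximalIdeal (G.presheaf.stalk z) :=
  ((IsLocalRing.local_hom_TFAE (f.stalkMap z).hom).out 0 1 rfl rfl).mp inferInstance
    ⟨a, ha, rfl⟩

theorem hasReg_preimage {S G : Scheme.{u}} [IsLocallyNoetherian S] (f : G ⟶ S) [Flat f] (U : S.Opens)
    (hU : ∀ s : S, IsLocalRing.maximalIdeal (S.presheaf.stalk s) ∈
        associatedPrimes (S.presheaf.stalk s) (S.presheaf.stalk s) → s ∈ U) :
    HasReg (f ⁻¹ᵁ U) := by
  intro z hz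
  let R := S.presheaf.stalk (f z)
  have hnot : ¬ IsLocalRing.maximalIdeal R ∈ associatedPrimes R R := fun h => hz (hU _ h)
  obtain ⟨a, ha, hareg⟩ : ∃ a ∈ IsLocalRing.maximalIdeal R, IsSMulRegular R a := by
    by_contra hcon
    push Not at hcon
    have hsub : (IsLocalRing.maximalIdeal R : Set R) ⊆ ⋃ P ∈ associatedPrimes R R, (P : Set R) := by
      rw [biUnion_associatedPrimes_eq_zero_divisors]
      intro a ha
      by_contra h
      exact hcon a ha fun x y hxy => by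
        by_contra hne
        exact h ⟨x - y, sub_ne_zero.mpr hne, by simp only [smul_sub]; exact sub_eq_zero.mpr hxy⟩
    obtain ⟨P, hP, hle⟩ := (Ideal.subset_union_prime_finite (associatedPrimes.finite R R) ⊥ ⊥
      fun P hP _ _ => hP.isPrime).mp hsub
    have : P = IsLocalRing.maximalIdeal R :=
      ((IsLocalRing.maximalIdeal.isMaximal R).eq_of_le hP.isPrime.ne_top hle).symm
    exact hnot (this ▸ hP)
  have h := map_regular (f.stalkMap z).hom (Flat.stalkMap f z)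
    ((isWeaklyRegular_singleton_iff R a).mpr hareg)
  refine ⟨(f.stalkMap z).hom a, map_maximalIdeal f z ha, fun x hx => ?_⟩
  exact ((isWeaklyRegular_singleton_iff _ _).mp h).right_eq_zero_of_smul hx

theorem hasPair_preimage {S G : Scheme.{u}} [IsLocallyNoetherian S] (f : G ⟶ S) [Flat f] (U : S.Opens)
    (hU : ∀ s : S, s ∉ U → (2 : ℕ∞) ≤ LocCoh.depth (S.presheaf.stalk s) (S.presheaf.stalk s)) :
    HasPair (f ⁻¹ᵁ U) := by
  intro z hz
  let R := S.presheaf.stalk (f z)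
  obtain ⟨rs, hlen, hmem, hreg⟩ := (Depth.Basic.le_depth_iff (R := R) (M := R) 2).mp (hU _ hz)
  obtain ⟨a, b, rfl⟩ : ∃ a b, rs = [a, b] := List.length_eq_two.mp hlen
  have h := map_regular (f.stalkMap z).hom (Flat.stalkMap f z) hreg.toIsWeaklyRegular
  refine ⟨(f.stalkMap z).hom a, (f.stalkMap z).hom b, map_maximalIdeal f z (hmem a (by simp)),
    map_maximalIdeal f z (hmem b (by simp)), ?_⟩
  exact Pair.of_isWeaklyRegular h

theorem hom_eq {S G₁ G₂ : Scheme.{u}} [IsLocallyNoetherian S] (f₁ : G₁ ⟶ S) (f₂ : G₂ ⟶ S) [Flat f₁]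
    [IsSeparated f₂] (U : S.Opens)
    (hU : ∀ s : S, IsLocalRing.maximalIdeal (S.presheaf.stalk s) ∈
        associatedPrimes (S.presheaf.stalk s) (S.presheaf.stalk s) → s ∈ U)
    (φ ψ : G₁ ⟶ G₂) (hφ : φ ≫ f₂ = f₁) (hψ : ψ ≫ f₂ = f₁)
    (h : (f₁ ⁻¹ᵁ U).ι ≫ φ = (f₁ ⁻¹ᵁ U).ι ≫ ψ) : φ = ψ :=
  (hasReg_preimage f₁ U hU).ext f₂ (hφ.trans hψ.symm) h

theorem existsUnique_hom {S G₁ G₂ : Scheme.{u}} [IsNoetherian S] (f₁ : G₁ ⟶ S) (f₂ : G₂ ⟶ S)
    [IsFinite f₁] [Flat f₁] [IsAffineHom f₂] (U : S.Opens)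
    (hU : ∀ s : S, s ∉ U → (2 : ℕ∞) ≤ LocCoh.depth (S.presheaf.stalk s) (S.presheaf.stalk s))
    (t : ((f₁ ⁻¹ᵁ U : G₁.Opens) : Scheme.{u}) ⟶ G₂) (ht : t ≫ f₂ = (f₁ ⁻¹ᵁ U).ι ≫ f₁) :
    ∃! φ : G₁ ⟶ G₂, φ ≫ f₂ = f₁ ∧ (f₁ ⁻¹ᵁ U).ι ≫ φ = t := by
  haveI : IsLocallyNoetherian G₁ := LocallyOfFiniteType.isLocallyNoetherian f₁
  haveI : CompactSpace G₁ := QuasiCompact.compactSpace_of_compactSpace f₁
  haveI : IsNoetherian G₁ := {}
  haveI : IsAffineHom (pullback.fst f₁ f₂) :=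
    MorphismProperty.of_isPullback (P := @IsAffineHom) (IsPullback.of_hasPullback f₁ f₂).flip inferInstance
  obtain ⟨s, ⟨hs, hsU⟩, huniq⟩ := existsUnique_extension (hasPair_preimage f₁ U hU)
    (pullback.fst f₁ f₂) (pullback.lift (f₁ ⁻¹ᵁ U).ι t ht.symm) (pullback.lift_fst _ _ _)
  refine ⟨s ≫ pullback.snd f₁ f₂, ⟨?_, ?_⟩, fun φ hφ => ?_⟩
  · rw [Category.assoc, ← pullback.condition, ← Category.assoc, hs, Category.id_comp]
  · rw [← Category.assoc, hsU, pullback.lift_snd]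
  · rw [← huniq (pullback.lift (𝟙 G₁) φ (by rw [Category.id_comp, hφ.1])) ⟨pullback.lift_fst _ _ _,
      pullback.hom_ext (by rw [Category.assoc, pullback.lift_fst, Category.comp_id, pullback.lift_fst])
        (by rw [Category.assoc, pullback.lift_snd, pullback.lift_snd, hφ.2])⟩, pullback.lift_snd]

end Groth.Agent.Lib.FlatExtend.Basic
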